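import Cfsg.Agent.E62.Act
import Cfsg.Agent.H10.SUSimple

/-! The restriction of a non-trivial module of order `2 ^ 20` to the monomial group `3^4 : S6`. -/

set_option autoImplicit false
set_option maxRecDepth 100000
set_option synthInstance.maxSize 2048

namespace Cfsg.Agent.E62

open Matrix Subgroup Cfsg.Agent.H10 Cfsg.Agent.H29 Cfsg.Agent.H29.F4 Cfsg.Agent.H22.U6 Cfsg.Agent.CO1
  Cfsg.Agent.H97 Cfsg.Agent.MON.Cox

namespace ModAa

open ActA Equiv Function

/-! ### The torus and the permutation matrices -/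

/-- exponents and weights -/
abbrev X : Type := Fin 6 → ZMod 3

/-- powers of `w` -/
def om (k : ZMod 3) : F4 := w ^ k.val

theorem om_add : ∀ a b, om (a + b) = om a * om b := by decide
theorem om_inj : ∀ a b, om a = om b → a = b := by decide
theorem om_surj : ∀ c : F4, c ≠ 0 → ∃ k, c = om k := by decide

/-- the projection to the vectors of sum zero -/
def cr (x : X) : X := fun i => x i - if i = 0 then ∑ j, x j else 0

theorem cr_add (x y : X) : cr (x + y) = cr x + cr y := by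
  ext i
  simp only [cr, Pi.add_apply, Finset.sum_add_distrib]
  split_ifs <;> ring

theorem cr_of {x : X} (h : ∑ i, x i = 0) : cr x = x := by ext i; simp [cr, h]

theorem prod_om (x : X) : ∏ i, om (x i) = om (∑ i, x i) := by
  simp [Fin.prod_univ_six, Fin.sum_univ_six, om_add]

/-- diagonal matrices -/
def dS (x : X) : SU 6 F4 2 := mkSU (diagonal fun i => om (cr x i))
  (fun u v => Finset.sum_congr rfl fun i _ => by
    rw [mulVec_diagonal, mulVec_diagonal]
    exact (by decide : ∀ (k : ZMod 3) (a b : F4), om k * a * (om k * b) ^ 2 = a * b ^ 2) _ _ _)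
  (by rw [det_diagonal, prod_om, show ∑ i, cr x i = 0 by simp [cr, Finset.sum_sub_distrib]]; rfl)

theorem sm_dS (x : X) : sm (dS x) = diagonal fun i => om (cr x i) := rfl

/-- the torus -/
def d (x : X) : L6 := dS x

theorem d_add (x y : X) : d (x + y) = d x * d y :=
  congrArg QuotientGroup.mk (sm_injective (a₁ := dS (x + y)) (a₂ := dS x * dS y) (by
    rw [sm_mul, sm_dS, sm_dS, sm_dS, diagonal_mul_diagonal, cr_add]
    simp only [Pi.add_apply, om_add]))

theorem d_zero : d 0 = 1 := by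
  have := d_add 0 0
  rwa [add_zero, left_eq_mul] at this

theorem d_one : d 1 = 1 := (QuotientGroup.eq_one_iff _).2 ((mem_center_SU_iff (by decide) _).2 ⟨w, by
  rw [sm_dS]; decide +kernel⟩)

theorem d_comm (x y : X) : Commute (d x) (d y) := by rw [Commute, SemiconjBy, ← d_add, ← d_add, add_comm]

theorem d_three (x : X) : d x * d x * d x = 1 := by
  rw [← d_add, ← d_add, ← d_zero]
  exact congrArg d (funext fun i => (by decide : ∀ a : ZMod 3, a + a + a = 0) (x i))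

/-- permutation matrices -/
def pS : Perm (Fin 6) →* SU 6 F4 2 := MonoidHom.mk'
  (fun σ => mkSU (σ⁻¹.permMatrix F4) (fun u v => by
    rw [permMatrix_mulVec, permMatrix_mulVec]
    exact Equiv.sum_comp σ⁻¹ fun i => u i * v i ^ 2) (by
    rw [det_permutation]
    rcases Int.units_eq_one_or (Perm.sign σ⁻¹) with e | e <;> rw [e] <;> rfl))
  fun σ τ => sm_injective (by
    change (σ * τ)⁻¹.permMatrix F4 = σ⁻¹.permMatrix F4 * τ⁻¹.permMatrix F4
    rw [_root_.mul_inv_rev, permMatrix_mul])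

theorem sm_pS (σ : Perm (Fin 6)) : sm (pS σ) = σ⁻¹.permMatrix F4 := rfl

/-- the symmetric group -/
def p : Perm (Fin 6) →* L6 := (QuotientGroup.mk' _).comp pS

theorem sum_comp {x : X} (h : ∑ i, x i = 0) (σ : Perm (Fin 6)) : ∑ i, (x ∘ σ) i = 0 :=
  (Equiv.sum_comp σ x).trans h

theorem d_p (σ : Perm (Fin 6)) {x : X} (h : ∑ i, x i = 0) : d x * p σ = p σ * d (x ∘ σ) :=
  congrArg QuotientGroup.mk (sm_injective (a₁ := dS x * pS σ) (a₂ := pS σ * dS (x ∘ σ)) (by
    rw [sm_mul, sm_mul, sm_dS, sm_dS, sm_pS, cr_of h, cr_of (sum_comp h σ)]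
    ext i j
    rw [diagonal_mul, mul_diagonal]
    by_cases e : σ.symm i = j
    · subst e; simp [Perm.inv_def, mul_comm]
    · simp [Perm.inv_def, e]))

/-! ### Weights -/

variable {V : Type*} [AddCommGroup V] [DistribMulAction L6 V]

/-- the norm map -/
def Nn (V : Type*) [AddCommGroup V] [DistribMulAction L6 V] (g : L6) : V →+ V :=
  AddMonoidHom.id V + DistribSMul.toAddMonoidHom V g + DistribSMul.toAddMonoidHom V (g * g)

theorem Nn_apply (g : L6) (u : V) : Nn V g u = u + g • u + g • g • u := by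
  rw [← mul_smul]; rfl

theorem smul_comm' {a g : L6} (h : Commute a g) (u : V) : a • g • u = g • a • u := by
  rw [← mul_smul, h.eq, mul_smul]

theorem smul_Nn {a b g g' : L6} (h : a * g = g' * b) (h' : b = a) (u : V) : a • Nn V g u = Nn V g' (a • u) := by
  subst h'
  simp only [Nn_apply, smul_add, ← mul_smul, ← mul_assoc, h]
  rw [mul_assoc g' b g, h, ← mul_assoc]

theorem fix_Nn {g : L6} (h : g * g * g = 1) (u : V) : g • Nn V g u = Nn V g u := by
  simp only [Nn_apply, smul_add]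
  rw [← mul_smul g g (g • u), ← mul_smul (g * g), h, one_smul]
  abel

theorem sum_Nn (h2 : ∀ x : V, x + x = 0) {a t : L6} (hc : Commute a t) (h3 : t * t * t = 1) {u : V}
    (hu : Nn V t u = 0) : Nn V a u + Nn V (a * t) u + Nn V (a * t * t) u = u := by
  have e3 : t • t • t • u = u := by rw [← mul_smul, ← mul_smul, h3, one_smul]
  have h1 : a • Nn V t u + a • a • Nn V t u = 0 := by rw [hu, smul_zero, smul_zero, add_zero]
  simp only [Nn_apply, mul_smul, smul_add, ← smul_comm' hc, e3] at h1 ⊢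
  refine Eq.trans ?_ ((congrArg (u + (u + u) + ·) h1).trans (by rw [h2, add_zero, add_zero]))
  abel

theorem exists_eig (h2 : ∀ x : V, x + x = 0) (x1 : X) {u0 : V} (h0 : u0 ≠ 0) (hN : Nn V (d x1) u0 = 0) :
    ∃ u : V, u ≠ 0 ∧ Nn V (d x1) u = 0 ∧ ∀ x, ∃ k : ZMod 3, d x • u = d (k • x1) • u := by
  suffices ∀ s : Finset X, ∃ u : V, u ≠ 0 ∧ Nn V (d x1) u = 0 ∧ ∀ x ∈ s, ∃ k : ZMod 3, d x • u = d (k • x1) • u by
    obtain ⟨u, h1, h2, h3⟩ := this Finset.univ
    exact ⟨u, h1, h2, fun x => h3 x (Finset.mem_univ x)⟩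
  intro s
  induction s using Finset.induction_on with
  | empty => exact ⟨u0, h0, hN, by simp⟩
  | insert x s _ ih =>
    obtain ⟨u, h1, h3, h4⟩ := ih
    obtain ⟨k, hk⟩ : ∃ k : ZMod 3, Nn V (d (x + k • x1)) u ≠ 0 := by
      by_contra hn
      push Not at hn
      have := sum_Nn h2 (d_comm x x1) (d_three x1) h3
      have a := hn 0
      have b := hn 1
      have c := hn (1 + 1)
      rw [zero_smul, add_zero] at a
      rw [one_smul, d_add] at b
      rw [add_smul, one_smul, ← add_assoc, d_add, d_add] at c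
      rw [a, b, c, add_zero, add_zero] at this
      exact h1 this.symm
    refine ⟨_, hk, ?_, fun y hy => ?_⟩
    · rw [Nn_apply (d (x + k • x1)), map_add, map_add, ← smul_Nn (d_comm _ _).eq rfl, ← smul_Nn (d_comm _ _).eq rfl,
        ← smul_Nn (d_comm _ _).eq rfl, h3]
      simp
    rcases Finset.mem_insert.1 hy with rfl | hy
    · refine ⟨-k, ?_⟩
      conv_rhs => rw [← fix_Nn (d_three _), ← mul_smul, ← d_add]
      congr 2
      module
    · obtain ⟨j, hj⟩ := h4 y hy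
      exact ⟨j, by rw [smul_Nn (d_comm _ _).eq rfl, smul_Nn (d_comm _ _).eq rfl, hj]⟩

/-- `ψ` is a weight space of weight `y` -/
structure Wt (y : X) (ψ : F4 →+ V) : Prop where
  inj : Injective ψ
  act : ∀ x : X, ∑ i, x i = 0 → ∀ c, d x • ψ c = ψ (om (x ⬝ᵥ y) * c)

/-- the span of two vectors -/
def spf (a b : V) : F4 → V
  | .o => 0 | .i => a | .w => b | .v => a + b

/-- the span of two vectors -/
def sp (h2 : ∀ x : V, x + x = 0) (a b : V) : F4 →+ V := AddMonoidHom.mk' (spf a b) fun c c' => by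
  have h3 : ∀ x y : V, x + (x + y) = y := fun x y => by rw [← add_assoc, h2, zero_add]
  change spf a b (F4.add c c') = _
  cases c <;> cases c' <;> simp [F4.add, spf, h2, h3, add_comm, add_left_comm]

theorem exists_wt (h2 : ∀ x : V, x + x = 0) (hn : ∃ (g : L6) (x : V), g • x ≠ x) :
    ∃ (y : X) (ψ : F4 →+ V), Wt y ψ ∧ y 0 ≠ y 1 := by
  obtain ⟨x1, hx1⟩ : ∃ x1 : X, x1 = ![1, -1, 0, 0, 0, 0] := ⟨_, rfl⟩
  obtain ⟨v0, hv0⟩ : ∃ v0 : V, d x1 • v0 ≠ v0 := by
    by_contra h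
    push Not at h
    have := psu_isSimpleGroup (n := 6) (F := F4) (q := 2) (by decide) (by decide)
    rcases (MulAction.toPermHom L6 V).normal_ker.eq_bot_or_eq_top with e | e
    · have : d x1 ∈ (MulAction.toPermHom L6 V).ker := Equiv.ext h
      rw [e, mem_bot] at this
      obtain ⟨c, hc⟩ := (mem_center_SU_iff (by decide) _).1 ((QuotientGroup.eq_one_iff _).1 this)
      rw [sm_dS, hx1] at hc
      exact absurd ((congrFun₂ hc 0 0).trans (congrFun₂ hc 1 1).symm) (by decide)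
    · obtain ⟨g, x, hx⟩ := hn
      exact hx (Equiv.congr_fun (e ▸ mem_top g : g ∈ (MulAction.toPermHom L6 V).ker) x)
  have e3 : ∀ u : V, d x1 • d x1 • d x1 • u = u := fun u => by rw [← mul_smul, ← mul_smul, d_three, one_smul]
  have hsub : ∀ a b : V, a + b = 0 → a = b := fun a b h => by rw [← add_zero a, ← h2 b, ← add_assoc, h, zero_add]
  obtain ⟨u, h0, hN, hk⟩ := exists_eig h2 x1 (u0 := d x1 • v0 + v0) (fun h => hv0 (hsub _ _ h)) (by
    rw [map_add, ← smul_Nn (d_comm _ _).eq rfl, fix_Nn (d_three _), h2])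
  rw [Nn_apply] at hN
  have e2 := (hsub _ _ hN).symm
  have h1 : d x1 • u ≠ u := fun h => h0 (by rwa [h, h, h2, zero_add] at hN)
  obtain ⟨ψ, hψ⟩ : ∃ ψ, ψ = sp h2 u (d x1 • u) := ⟨_, rfl⟩
  have inj : Injective ψ := (injective_iff_map_eq_zero ψ).2 fun c hc => by
    rw [hψ] at hc
    cases c
    · rfl
    · exact absurd hc h0
    · exact absurd ((smul_eq_zero_iff_eq _).1 hc) h0
    · exact absurd (hsub _ _ hc).symm h1
  have t1 : ∀ c, d x1 • ψ c = ψ (w * c) := fun c => by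
    rw [hψ]
    cases c
    · exact smul_zero _
    · rfl
    · exact e2
    · change d x1 • (u + d x1 • u) = u
      rw [← e2, e3]
  have tk : ∀ (k : ZMod 3) c, d (k • x1) • ψ c = ψ (om k * c) := fun k c => by
    rcases (by decide : ∀ k : ZMod 3, k = 0 ∨ k = 1 ∨ k = 1 + 1) k with rfl | rfl | rfl
    · rw [zero_smul, d_zero, one_smul, show om 0 = 1 from rfl, one_mul]
    · rw [one_smul, t1]; rfl
    · rw [add_smul, one_smul, d_add, mul_smul, t1, t1, ← mul_assoc]; rfl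
  have : ∀ x, ∃ k : ZMod 3, ∀ c, d x • ψ c = ψ (om k * c) := fun x => (hk x).imp fun k e c => by
    by_cases hc : c = 0
    · rw [hc, mul_zero, map_zero, smul_zero]
    obtain ⟨j, rfl⟩ := om_surj c hc
    have : ψ 1 = u := by rw [hψ]; rfl
    rw [← tk, ← mul_one (om j), ← tk, this, smul_comm' (d_comm _ _), e, smul_comm' (d_comm _ _)]
  choose κ hκ using this
  let κ' : X →+ ZMod 3 := AddMonoidHom.mk' κ fun x y => om_inj _ _ (by
    have := hκ (x + y) 1
    rw [d_add, mul_smul, hκ, hκ] at this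
    rw [om_add, ← mul_one (om (κ (x + y))), ← inj this, mul_one])
  have hy : ∀ x, κ x = x ⬝ᵥ fun i => κ fun j => if i = j then 1 else 0 := fun x =>
    (κ'.toZModLinearMap 3).pi_apply_eq_sum_univ x
  refine ⟨_, ψ, ⟨inj, fun x _ c => by rw [← hy, hκ]⟩, fun e => ?_⟩
  have a := hy x1
  have b := inj ((hκ x1 1).symm.trans (t1 1))
  conv_rhs at a => rw [hx1]
  simp only [dotProduct, Fin.sum_univ_six, cons_val, e] at a
  rw [show κ x1 = 0 by linear_combination a] at b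
  exact absurd b (by decide)

theorem Wt.perm {y : X} {ψ : F4 →+ V} (σ : Perm (Fin 6)) (h : Wt (y ∘ σ) ψ) :
    Wt y ((DistribSMul.toAddMonoidHom V (p σ)).comp ψ) :=
  ⟨(MulAction.injective (p σ)).comp h.inj, fun x hx c => by
    change d x • p σ • ψ c = p σ • ψ _
    rw [← mul_smul, d_p σ hx, mul_smul, h.act _ (sum_comp hx σ), comp_equiv_dotProduct_comp_equiv]⟩

theorem Wt.shift {y y' : X} {ψ : F4 →+ V} (h : Wt y ψ) {t : ZMod 3} (e : ∀ i, y i = y' i + t) : Wt y' ψ :=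
  ⟨h.inj, fun x hx c => by
    rw [h.act x hx]
    simp only [dotProduct, e, mul_add, Finset.sum_add_distrib, ← Finset.sum_mul, hx, zero_mul, add_zero]⟩

theorem Wt.sum {y : X} {ψ : F4 →+ V} (h : Wt y ψ) : ∑ i, y i = 0 := by
  have := h.act 1 (by decide) 1
  rw [d_one, one_smul, mul_one, one_dotProduct] at this
  exact (om_inj 0 _ (h.inj this)).symm

/-- the homogeneous component of the weight `y` -/
def U (y : X) (u : V) : Prop := ∀ x : X, ∑ i, x i = 0 → Nn V (d x) u = if x ⬝ᵥ y = 0 then u else 0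

theorem Wt.u {y : X} {ψ : F4 →+ V} (h : Wt y ψ) (c : F4) : U y (ψ c) := fun x hx => by
  rw [Nn_apply, h.act x hx, h.act x hx, ← map_add, ← map_add, ← map_zero ψ, ← apply_ite ψ]
  exact congrArg ψ ((by decide : ∀ (k : ZMod 3) (c : F4),
    c + om k * c + om k * (om k * c) = if k = 0 then c else 0) _ _)

theorem U.add {y : X} {a b : V} (ha : U y a) (hb : U y b) : U y (a + b) := fun x hx => by
  rw [map_add, ha x hx, hb x hx]
  split_ifs <;> simp

/-- candidates for separating two weights -/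
def XL : List X := [![1, 2, 0, 0, 0, 0], ![1, 0, 2, 0, 0, 0], ![1, 0, 0, 2, 0, 0], ![1, 0, 0, 0, 2, 0],
  ![1, 0, 0, 0, 0, 2], ![0, 1, 2, 0, 0, 0], ![0, 1, 0, 2, 0, 0], ![0, 1, 0, 0, 2, 0], ![0, 1, 0, 0, 0, 2],
  ![0, 0, 1, 2, 0, 0], ![0, 0, 1, 0, 2, 0], ![0, 0, 1, 0, 0, 2], ![0, 0, 0, 1, 2, 0], ![0, 0, 0, 1, 0, 2],
  ![0, 0, 0, 0, 1, 2], ![1, 1, 1, 0, 0, 0], ![1, 1, 0, 1, 0, 0], ![1, 1, 0, 0, 1, 0], ![1, 1, 0, 0, 0, 1],
  ![1, 0, 1, 1, 0, 0], ![1, 0, 1, 0, 1, 0], ![1, 0, 1, 0, 0, 1], ![1, 0, 0, 1, 1, 0], ![1, 0, 0, 1, 0, 1],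
  ![1, 0, 0, 0, 1, 1]]

/-- the weights are not proportional -/
def sep (y y' : X) : Bool := XL.any fun x => decide (x ⬝ᵥ y = 0) && decide (x ⬝ᵥ y' ≠ 0) && decide (∑ i, x i = 0)

theorem indep {ι : Type} [DecidableEq ι] {y0 : X} (y : ι → X) (s : Finset ι) (hs : ∀ j ∈ s, sep y0 (y j) = true)
    {u0 : V} (h0 : U y0 u0) (u : ι → V) (hu : ∀ j ∈ s, U (y j) (u j)) (h : u0 + ∑ j ∈ s, u j = 0) : u0 = 0 := by
  induction s using Finset.induction_on generalizing u with
  | empty => simpa using h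
  | insert j s hj ih =>
    obtain ⟨x, -, hx⟩ := List.any_eq_true.1 (hs j (Finset.mem_insert_self j s))
    simp only [Bool.and_eq_true, decide_eq_true_eq] at hx
    refine ih (fun k hk => hs k (Finset.mem_insert_of_mem hk)) (fun k => Nn V (d x) (u k)) (fun k hk => ?_) ?_
    · have := hu k (Finset.mem_insert_of_mem hk)
      rw [this x hx.2]
      split_ifs
      · exact this
      · exact fun _ _ => by simp
    · have := congrArg (Nn V (d x)) h
      rwa [Finset.sum_insert hj, map_add, map_add, map_sum, map_zero, h0 x hx.2, if_pos hx.1.1,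
        hu j (Finset.mem_insert_self j s) x hx.2, if_neg hx.1.2, zero_add] at this

/-- the sum of some conjugates of a weight space -/
def E {ι : Type} [Fintype ι] (ψ : F4 →+ V) (σ : ι → Perm (Fin 6)) : (ι → F4) →+ V :=
  AddMonoidHom.mk' (fun f => ∑ i, p (σ i) • ψ (f i)) fun f g => by
    simp only [Pi.add_apply, map_add, smul_add, Finset.sum_add_distrib]

theorem E_apply {ι : Type} [Fintype ι] (ψ : F4 →+ V) (σ : ι → Perm (Fin 6)) (f : ι → F4) :
    E ψ σ f = ∑ i, p (σ i) • ψ (f i) := rfl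

theorem Wt.perm' {y : X} {ψ : F4 →+ V} (h : Wt y ψ) (σ : Perm (Fin 6)) :
    Wt (y ∘ ⇑σ⁻¹) ((DistribSMul.toAddMonoidHom V (p σ)).comp ψ) :=
  Wt.perm σ (by rwa [show (y ∘ ⇑σ⁻¹) ∘ σ = y by ext; simp])

theorem Wt.E_inj {ι : Type} [Fintype ι] [DecidableEq ι] {y : X} {ψ : F4 →+ V} (h : Wt y ψ) {σ : ι → Perm (Fin 6)}
    (hs : ∀ i j, j ≠ i → sep (y ∘ ⇑(σ i)⁻¹) (y ∘ ⇑(σ j)⁻¹) = true) : Injective (E ψ σ) :=
  (injective_iff_map_eq_zero _).2 fun f hf => funext fun i => by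
    rw [E_apply, ← Finset.add_sum_erase _ _ (Finset.mem_univ i)] at hf
    have := indep (fun j => y ∘ ⇑(σ j)⁻¹) _ (fun j hj => hs i j (Finset.ne_of_mem_erase hj))
      ((h.perm' (σ i)).u (f i)) _ (fun j _ => (h.perm' (σ j)).u (f j)) hf
    exact (h.perm' (σ i)).inj (this.trans (map_zero _).symm)

/-- products of transpositions -/
def wd : List (Fin 6 × Fin 6) → Perm (Fin 6) := List.foldr (fun a g => swap a.1 a.2 * g) 1

/-- eleven conjugates -/
def pl : Fin 4 → Fin 11 → List (Fin 6 × Fin 6) :=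
  ![![[], [(0, 4)], [(0, 5)], [(1, 4)], [(1, 5)], [(2, 4)], [(2, 5)], [(3, 4)], [(3, 5)], [(0, 4), (1, 5)],
      [(0, 4), (2, 5)]],
    ![[], [(0, 1)], [(0, 2)], [(0, 3)], [(0, 4)], [(1, 5)], [(2, 5)], [(3, 5)], [(4, 5)], [(0, 1), (2, 5)],
      [(0, 1), (3, 5)]],
    ![[], [(0, 2)], [(0, 3)], [(0, 4)], [(0, 5)], [(1, 2)], [(1, 3)], [(1, 4)], [(1, 5)], [(0, 2), (1, 3)],
      [(0, 2), (1, 4)]],
    ![[], [(0, 2)], [(0, 3)], [(0, 4)], [(0, 5)], [(2, 4)], [(2, 5)], [(0, 2), (0, 4)], [(0, 2), (0, 5)],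
      [(0, 2), (2, 4)], [(0, 2), (2, 5)]]]

/-- the weight of the module -/
def y0 : X := ![1, 1, 1, 0, 0, 0]

/-- some elements of the stabiliser of `± y0` -/
def ka : Fin 6 → Perm (Fin 6) :=
  ![1, swap 0 1, swap 1 2, swap 3 4, swap 4 5, swap 0 3 * swap 1 4 * swap 2 5]

/-- the types of weights -/
def Orb (y : X) : Prop := ∑ i, y i = 0 → (∀ i, y i = y 0) ∨ (∃ t, ∀ i, y i = y0 i + t) ∨
  (∃ t, ∀ i, y i = (y0 ∘ ka 5) i + t) ∨
    ∃ k, ∀ i j, j ≠ i → sep (y ∘ ⇑(wd (pl k i))⁻¹) (y ∘ ⇑(wd (pl k j))⁻¹) = true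

instance : DecidablePred Orb := fun y => by unfold Orb; infer_instance

theorem orbits : ∀ a b c d e f : ZMod 3, a.val ≤ b.val → b.val ≤ c.val → c.val ≤ d.val → d.val ≤ e.val →
    e.val ≤ f.val → Orb ![a, b, c, d, e, f] := by decide +kernel

theorem exists_wt0 [Finite V] (h2 : ∀ x : V, x + x = 0) (hc : Nat.card V = 2 ^ 20)
    (hn : ∃ (g : L6) (x : V), g • x ≠ x) : ∃ ψ : F4 →+ V, Wt y0 ψ := by
  obtain ⟨y, ψ, h, hy⟩ := exists_wt h2 hn
  obtain ⟨σ, hσ⟩ : ∃ σ : Perm (Fin 6), Monotone ((fun i => (y i).val) ∘ σ) := ⟨_, Tuple.monotone_sort _⟩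
  have h' := h.perm' σ⁻¹
  rw [inv_inv] at h'
  have e : y ∘ σ = ![y (σ 0), y (σ 1), y (σ 2), y (σ 3), y (σ 4), y (σ 5)] := by ext i; fin_cases i <;> rfl
  have := orbits (y (σ 0)) (y (σ 1)) (y (σ 2)) (y (σ 3)) (y (σ 4)) (y (σ 5)) (hσ (by decide)) (hσ (by decide))
    (hσ (by decide)) (hσ (by decide)) (hσ (by decide))
  rw [← e] at this
  rcases this h'.sum with a | ⟨t, a⟩ | ⟨t, a⟩ | ⟨k, a⟩
  · exact absurd ((by simpa using a (σ⁻¹ 0) : y 0 = y (σ 0)).trans (by simpa using (a (σ⁻¹ 1)).symm)) hy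
  · exact ⟨_, h'.shift a⟩
  · exact ⟨_, (h'.shift a).perm _⟩
  · have := Nat.card_le_card_of_injective _ (h'.E_inj a)
    rw [hc, Nat.card_fun, Nat.card_eq_fintype_card, Nat.card_eq_fintype_card, F4.card_eq, Fintype.card_fin] at this
    exact absurd this (by norm_num)

/-- the order-preserving maps from `{0,1,2}`, `{3,4,5}` to a triple and its complement -/
def sg : Fin 10 → Perm (Fin 6) := fun S => wd (![[], [(2, 3)], [(3, 4), (2, 3)], [(4, 5), (3, 4), (2, 3)],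
  [(1, 3), (1, 2)], [(3, 4), (1, 3), (1, 2)], [(4, 5), (3, 4), (1, 3), (1, 2)], [(2, 4), (1, 3)],
  [(4, 5), (2, 4), (1, 3)], [(3, 5), (2, 4), (1, 3), (1, 2)]] S)

theorem sg_sep : ∀ i j, j ≠ i → sep (y0 ∘ ⇑(sg i)⁻¹) (y0 ∘ ⇑(sg j)⁻¹) = true := by decide +kernel

variable [Finite V]

theorem Wt.bij {ψ : F4 →+ V} (h : Wt y0 ψ) (hc : Nat.card V = 2 ^ 20) : Bijective (E ψ sg) :=
  (Nat.bijective_iff_injective_and_card _).2 ⟨h.E_inj sg_sep, card_V0.trans hc.symm⟩

theorem Wt.uniq (h2 : ∀ x : V, x + x = 0) (hc : Nat.card V = 2 ^ 20) {ψ ψ' : F4 →+ V} (h : Wt y0 ψ)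
    (h' : Wt y0 ψ') : ∃ c, c ≠ 0 ∧ ∀ a, ψ' a = ψ (a * c) := by
  obtain ⟨f, hf⟩ := (h.bij hc).2 (ψ' 1)
  rw [E_apply, ← Finset.add_sum_erase _ _ (Finset.mem_univ 0), show sg 0 = 1 from rfl, map_one, one_smul] at hf
  have e : ψ' 1 + ψ (f 0) = 0 :=
    indep (fun j => y0 ∘ ⇑(sg j)⁻¹) _ (fun j hj => sg_sep 0 j (Finset.ne_of_mem_erase hj))
      ((h'.u 1).add (h.u (f 0))) _ (fun j _ => (h.perm' (sg j)).u (f j)) (by
        rw [add_assoc]; exact (congrArg (ψ' 1 + ·) hf).trans (h2 _))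
  have e1 : ψ' 1 = ψ (f 0) := by rw [← add_zero (ψ' 1), ← h2 (ψ (f 0)), ← add_assoc, e, zero_add]
  refine ⟨f 0, fun h0 => one_ne_zero (h'.inj (by rw [e1, h0, map_zero, map_zero])), fun a => ?_⟩
  by_cases ha : a = 0
  · rw [ha, zero_mul, map_zero, map_zero]
  obtain ⟨k, rfl⟩ := om_surj a ha
  have s : ∑ i, (![k, 0, 0, -k, 0, 0] : X) i = 0 := by simp [Fin.sum_univ_six]
  have t : (![k, 0, 0, -k, 0, 0] : X) ⬝ᵥ y0 = k := by simp [y0]
  have a := h'.act _ s 1
  rw [e1, h.act _ s, t, mul_one] at a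
  exact a.symm

/-- conjugation -/
def sqh : F4 →+ F4 := AddMonoidHom.mk' (fun a => a * a) (by decide)

theorem exists_fixed (h2 : ∀ x : V, x + x = 0) (hc : Nat.card V = 2 ^ 20) (hn : ∃ (g : L6) (x : V), g • x ≠ x) :
    ∃ ψ : F4 →+ V, Wt y0 ψ ∧ ∀ m c, p (ka m) • ψ c = ψ (if m = 5 then c * c else c) := by
  obtain ⟨ψ, h⟩ := exists_wt0 h2 hc hn
  have h1 : Wt (-y0) (ψ.comp sqh) := ⟨h.inj.comp (by decide : Injective fun a : F4 => a * a), fun x hx c => by
    change d x • ψ (c * c) = ψ (_ * _)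
    rw [h.act x hx, dotProduct_neg]
    exact congrArg ψ ((by decide : ∀ (k : ZMod 3) (c : F4), om k * (c * c) = om (-k) * c * (om (-k) * c)) _ _)⟩
  obtain ⟨c0, h0, hc0⟩ := h.uniq h2 hc (Wt.perm (ka 5) (h1.shift (t := -1) (by decide)))
  have h' : Wt y0 (ψ.comp (AddMonoidHom.mulRight (c0 * c0))) :=
    ⟨h.inj.comp (mul_left_injective₀ (mul_ne_zero h0 h0)), fun x hx c => by
      change d x • ψ (c * _) = ψ (_ * _ * _)
      rw [h.act x hx, mul_assoc]⟩
  refine ⟨_, h', fun m c => ?_⟩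
  by_cases hm : m = 5
  · subst hm
    have := hc0 (c * c * c0)
    change p (ka 5) • ψ (_ * _) = _ at this
    change p (ka 5) • ψ (c * _) = ψ (_ * _)
    rw [(by decide : ∀ c c0 : F4, c * (c0 * c0) = c * c * c0 * (c * c * c0)), this, if_pos rfl, mul_assoc]
  generalize ψ.comp (AddMonoidHom.mulRight (c0 * c0)) = χ at h'
  obtain ⟨e1, e2⟩ := (by decide : ∀ m, m ≠ 5 → (∀ i, y0 i = (y0 ∘ ka m) i + 0) ∧ ∀ i, (ka m * ka m) i = i) m hm
  obtain ⟨c1, -, hc1⟩ := h'.uniq h2 hc (Wt.perm (ka m) (h'.shift e1))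
  have k : ∀ a, p (ka m) • χ a = χ (a * c1) := hc1
  have := k (1 * c1)
  rw [← k, ← mul_smul, ← map_mul, show ka m * ka m = 1 from Equiv.ext e2, map_one, one_smul] at this
  rw [k, (by decide : ∀ c : F4, 1 = 1 * c * c → c = 1) c1 (h'.inj this), mul_one, if_neg hm]

/-- vectors with one coordinate -/
def svf (S : Fin 10) (c : F4) (T : Fin 10) : F4 := cond (Nat.beq T S) c 0

/-- vectors with one coordinate -/
def sv (S : Fin 10) (c : F4) : V0 := svf S c

theorem svf_eq (S : Fin 10) (c : F4) : svf S c = Pi.single S c := funext fun T => by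
  by_cases e : T = S
  · simp [svf, e]
  · have : Nat.beq T S = false := Bool.eq_false_iff.2 fun h => e (Fin.ext (Nat.eq_of_beq_eq_true h))
    simp [svf, this, e]

/-- the isomorphism -/
def E0 (ψ : F4 →+ V) : V0 →+ V := E ψ sg

omit [Finite V] in
theorem E_sv (ψ : F4 →+ V) (S : Fin 10) (c : F4) : E0 ψ (sv S c) = p (sg S) • ψ c := by
  change ∑ T, p (sg T) • ψ (svf S c T) = _
  rw [Finset.sum_eq_single S (fun T _ h => by simp [svf_eq, h]) (by simp)]
  simp [svf_eq]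

omit [Finite V] in
theorem E_equiv (ψ : F4 →+ V) {g : L6} (h : ∀ S c, E0 ψ (g • sv S c) = g • E0 ψ (sv S c)) (f : V0) :
    E0 ψ (g • f) = g • E0 ψ f :=
  DFunLike.congr_fun (AddMonoidHom.functions_ext V ((E0 ψ).comp (DistribSMul.toAddMonoidHom V0 g))
    ((DistribSMul.toAddMonoidHom V g).comp (E0 ψ)) fun S c => by rw [← svf_eq]; exact h S c) f

theorem swap_mat : ∀ k : Fin 5, tm (gens.getD k 0) = (swap k.castSucc k.succ)⁻¹.permMatrix F4 := by
  decide +kernel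

theorem swap_chk : ∀ (k : Fin 5) S, ∃ S' m, (∀ i, (swap k.castSucc k.succ * sg S) i = (sg S' * ka m) i) ∧
    ∀ c T, lamF (tm (gens.getD k 0)) (sv S c) T = svf S' (if m = 5 then c * c else c) T := by decide +kernel

theorem diag_chk : ∀ S c T, lamF (diagonal fun i => om ((![0, 1, 2, 0, 0, 0] : X) i)) (sv S c) T =
    svf S (om (((![0, 1, 2, 0, 0, 0] : X) ∘ sg S) ⬝ᵥ y0) * c) T := by decide +kernel

end ModAa

open ModAa ActA in
/-- the restriction to the monomial group `3^4 : S6` -/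
theorem modA {V : Type*} [AddCommGroup V] [Finite V] [DistribMulAction L6 V] (h2 : ∀ x : V, x + x = 0)
    (hc : Nat.card V = 2 ^ 20) (hn : ∃ (g : L6) (x : V), g • x ≠ x) :
    ∃ e : V ≃+ V0, ∀ r ∈ gens.take 6, ∀ x, e (tv r • x) = tv r • e x := by
  obtain ⟨ψ, h, hk⟩ := exists_fixed h2 hc hn
  have hs : ∀ k : Fin 5, ∀ f : V0, E0 ψ (tv (gens.getD k 0) • f) = tv (gens.getD k 0) • E0 ψ f := fun k => by
    have iso := gens_iso _ (gens_mem (k := k) (by omega))
    have e : tv (gens.getD k 0) = p (Equiv.swap k.castSucc k.succ) :=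
      congrArg QuotientGroup.mk (sm_injective ((tm_eq iso).trans (swap_mat k)))
    refine E_equiv ψ fun S c => ?_
    obtain ⟨S', m, h1, h3⟩ := swap_chk k S
    have : tv (gens.getD k 0) • sv S c = sv S' (if m = 5 then c * c else c) := by
      rw [tv, act_mk, tm_eq iso]
      exact funext fun T => (lamF_eq _ _ T).symm.trans (h3 c T)
    rw [this, E_sv, E_sv, e, ← mul_smul, ← map_mul, Equiv.ext h1, map_mul, mul_smul, hk]
  obtain ⟨x0, hx0⟩ : ∃ x0 : X, x0 = ![0, 1, 2, 0, 0, 0] := ⟨_, rfl⟩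
  have s0 : ∑ i, x0 i = 0 := by rw [hx0]; decide
  have hd : ∀ f : V0, E0 ψ (d x0 • f) = d x0 • E0 ψ f := E_equiv ψ fun S c => by
    have : d x0 • sv S c = sv S (om ((x0 ∘ sg S) ⬝ᵥ y0) * c) := by
      rw [d, act_mk, sm_dS, cr_of s0, hx0]
      exact funext fun T => (lamF_eq _ _ T).symm.trans (diag_chk S c T)
    rw [this, E_sv, E_sv, ← mul_smul, d_p _ s0, mul_smul, h.act _ (sum_comp s0 _)]
  have h6 : ∀ f : V0, E0 ψ (tv ![1, w, 0, 0, 0, 0] • f) = tv ![1, w, 0, 0, 0, 0] • E0 ψ f := fun f => by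
    have e : tv ![1, w, 0, 0, 0, 0] = d x0 * tv (gens.getD (0 : Fin 5) 0) * (d x0 * d x0) := by
      rw [← inv_eq_of_mul_eq_one_left (d_three x0), d, tv_conj, sm_dS, cr_of s0, hx0]
      congr 1
      decide +kernel
    simp only [e, mul_smul, hd, hs]
  have key : ∀ r ∈ gens.take 6, ∀ f : V0, E0 ψ (tv r • f) = tv r • E0 ψ f := by
    simp only [gens, List.take, List.forall_mem_cons]
    exact ⟨hs 0, hs 1, hs 2, hs 3, hs 4, h6, by simp⟩
  let e : V0 ≃+ V := AddEquiv.ofBijective (E0 ψ) (h.bij hc)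
  refine ⟨e.symm, fun r hr x => e.injective ?_⟩
  rw [e.apply_symm_apply]
  exact ((key r hr (e.symm x)).trans (congrArg (tv r • ·) (e.apply_symm_apply x))).symm

end Cfsg.Agent.E62
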