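import Cfsg.Agent.E62.Defs

/-! The action of `U6(2)` on the module `V0`, tables, generation by eight transvections. -/

set_option autoImplicit false
set_option maxRecDepth 100000

namespace Cfsg.Agent.E62

open Matrix Subgroup Cfsg.Agent.H10 Cfsg.Agent.H29 Cfsg.Agent.H29.F4 Cfsg.Agent.H22.U6 Cfsg.Agent.CO1
  Cfsg.Agent.H97 Cfsg.Agent.MON.Cox

local notation "𝐡" => hermForm 6 F4 2

namespace ActA

/-- matrices of size six -/
abbrev M6 : Type := Matrix (Fin 6) (Fin 6) F4

/-! ### Generation -/

/-- the number of a field element -/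
def en : F4 → ℕ
  | .o => 0 | .i => 1 | .w => 2 | .v => 3

/-- distances from the generators -/
def DT : ℕ := 0x1002120113000073230345034300004224035305340000400060004000455404340456045400005567078708680000956507670668000090006000800087780335046406450000557508670669000097560679078700009000600080008779000070005000566500006000800087780000600080008779077608790789000005450567056500006678089809790000a676087807790000a000700090009889078908970a890000b7860755066800007b88077909a80000b000a0008000ab9907870989088a0000ba99088a0ab90000c99b0aca0a990000c000c000d000dddd00008000a000a99a0000b0009000bcaa0000b000c000dccd0aab0bbb0cbc0000844605750756000066860978077a0000a867078a08980000a00070009000988a07970a89088b0000bb9a099b0aca0000c99a09b909880000c000c000d000dddd0978089a08970000b89908a808770000b7860766056600007000a000a00089a900008000a000a99b0000b000d000cccd0000b000b0009aba0aac0bdc0bbb000080008000600067760000700090009889000070009000988a0887098a089a000010008000a000a99a0000b000a000ccbb0000b000d000dccd0aaa0bac0bbc00007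0008000a000a99b0000b000d000dccc0000b000c000abbb0aab0bcb0bac000079980a9a09ab00002ba90b9b0abb000069ba0bba0a9b000060003000500054450656067806760000778908970a890000b7870989088a0000b0008000a000a99a088907860a780000a6750644055700006a77066808970000a000900070009a8808980a99099b0000cb88077909a80000baac0ab90b990000c000d000c000dddd00009000b000baab0000a0008000ab990000c000b000ddcc0bbb0caa0cbd0000877806750967000095640533044600005966055707860000900080006000897704530422033500004311000102210000733403320534000040004000600044550866055607760000944504430645000058860756077800009000800060008877000080006000897700005000700055660000800060008877097806770987000009a90b990aac0000ca88077809980000b9ab09a90a880000c000d000c000dddd0977066708870000a5560554075600006997086708890000a000900070009988089a08b809770000b9a8097807890000b8660678057500007000a000a00089b90000d000b000cdcc0000a0008000aa990000b000b0009aca0ccb0baa0bbb00008000a000b000cbbb0000a0008000ab990000d000b000dccc0cba0baa0bbc00007000900070009a88000060008000667700009000700099880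a8907880a9800001000d000b000ddcc0000a0008000aa990000c000b000abcb0cbb0aaa0cba00007ba90a9b0abb00006b9a08990aa900002bab09ba0bb900006000500030005544055706860867000077970a89088b0000b978089a08970000b0008000a000a99b08a80b9a099a0000ccaa099a09b90000c89908a808770000b000d000d000cddd0988079907860000a788079707660000a675065504550000600090009000789800009000b000baac0000c000d000bcdc0000a000a00089a90bbb0bcc0aba000089b90caa09ab0000cb99088909a90000c89a08b809770000b000d000d000cddd0a88077809980000b66706650867000079a8097807890000b000a0008000aa99078907a708660000a8a7098806780000a75505670464000060009000900078a80000d000c000bcdc0000b0009000bbaa0000a000a00089b90dcb0bbb0aca000088770688067500009677068606550000956405440344000050008000800067870678069607550000979608770567000096440456035300005000800080006797045304330233000045330345024200004122013101000000700040004000654500008000800067870000800080006797000050005000765607980897076700000000a000c000bbbc0000d000d000bcdc0000a000a00089a90acb0bcb0aaa00007000d000d000bccc0000c000a000bbbb0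000a000a00089b90cbb0acb0aba0000700090009000789800009000900078a8000060006000876708a909a80878000019bb0bba0a9b00006bab09ba0ba9000069aa0ab9098900002000500050003454000090007000788700008000a000a99a00008000a000a99b09980a9a09ab000000009000b000baaa0000b000a000ccab0000c000d000cbcc0ba90b9b0abb000060009000b000baab0000c000c000cccb0000b000b000abab09ba0bba0a9b000069a90b9908aa00001b980a8a09aa000058a90aa9098a000050002000400043340000a000b000bbba0000b0009000bbaa0000c000c000cbcc0ba90a9b0abb00006000a0008000ab9900007000900077880000a0008000aa990b9a08990aa900000000c000c000dcbc0000b0009000baaa0000c000b000abca0bab09ba0bb900006a98098a09aa00005a8a099a09b900001a9a08b90aa8000050004000200044330000a000c000babc0000d000c000cccb0000b000b0009aaa09bb0bba0a9b00006000c000c000ccbc0000b000a000babb0000b000b0009aba0bab09ba0ba900006000a000a00089a90000a000a00089b9000070007000987809aa0ab90989000008aa0aa9098b00005a9a08a90a980000599b0aa80a990000100040004000234308980a88079900000a870979089900004798099808790000400010003000322309870879089900004979088908a80000098907a809970000400030001000332207990998087a00004989079809870000488a099709880000000030003000123200000000200021120000200000002211000020002000012100010100001000000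

/-- the distance of an isotropic vector from the generators -/
def dist (x : V6) : ℕ :=
  (DT >>> (4 * (en (x 0) + 4 * (en (x 1) + 4 * (en (x 2) + 4 * (en (x 3) + 4 * (en (x 4) + 4 * en (x 5)))))))) % 16

/-- the form -/
def hf (x y : V6) : F4 := x 0 * (y 0 * y 0) + x 1 * (y 1 * y 1) + x 2 * (y 2 * y 2) + x 3 * (y 3 * y 3) +
  x 4 * (y 4 * y 4) + x 5 * (y 5 * y 5)

theorem hf_eq (x y : V6) : 𝐡 x y = hf x y := by simp [hermForm, hf, Fin.sum_univ_six, sq]

theorem dist_chk : ∀ a b c d e f : F4, hf ![a, b, c, d, e, f] ![a, b, c, d, e, f] = 0 →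
    (∃ k < 8, dist (![a, b, c, d, e, f] + hf ![a, b, c, d, e, f] (gens.getD k 0) • gens.getD k 0) <
      dist ![a, b, c, d, e, f]) ∨ ∃ k < 8, ∃ s : F4, ![a, b, c, d, e, f] = s • gens.getD k 0 := by decide +kernel

theorem gens_mem {k : ℕ} (hk : k < 8) : gens.getD k 0 ∈ gens := by
  rw [List.getD_eq_getElem gens 0 hk]
  exact List.getElem_mem _

theorem forall_gens {P : V6 → Prop} (h : ∀ k < 8, P (gens.getD k 0)) : ∀ r ∈ gens, P r := fun r hr => by
  obtain ⟨k, hk, rfl⟩ := List.getElem_of_mem hr
  rw [← List.getD_eq_getElem gens 0 hk]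
  exact h k hk

theorem gens_iso : ∀ r ∈ gens, 𝐡 r r = 0 := forall_gens (by decide +kernel)

theorem ts_zero : ts 0 = 1 := sm_injective (by rw [sm_ts (herm_zero_left _), ut_zero_left, sm_one])

theorem ts_mem {K : Subgroup (SU 6 F4 2)} (h : ∀ r ∈ gens, ts r ∈ K) (x : V6) : ts x ∈ K := by
  by_cases hx : 𝐡 x x = 0
  swap
  · rw [ts, dif_neg hx]; exact one_mem _
  induction hn : dist x using Nat.strong_induction_on generalizing x with
  | _ n ih =>
    have e : x = ![x 0, x 1, x 2, x 3, x 4, x 5] := by ext i; fin_cases i <;> rfl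
    have := dist_chk (x 0) (x 1) (x 2) (x 3) (x 4) (x 5)
    rw [← e, ← hf_eq] at this
    rcases this hx with ⟨k, hk, hlt⟩ | ⟨k, hk, s, rfl⟩ <;> have hr := gens_mem hk <;>
      generalize gens.getD k 0 = r at *
    · rw [← hf_eq, ← ts_mulVec (gens_iso r hr)] at hlt
      have := ih _ (hn ▸ hlt) _ ((sm_isIsom (ts r) x x).trans hx) rfl
      rwa [← ts_conj, mul_mem_cancel_right (inv_mem (h r hr)), mul_mem_cancel_left (h r hr)] at this
    · by_cases hs : s = 0
      · rw [hs, zero_smul, ts_zero]; exact one_mem _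
      · rw [ts_smul hs]; exact h r hr

theorem gen8S {K : Subgroup (SU 6 F4 2)} (h : ∀ r ∈ gens, ts r ∈ K) : K = ⊤ := by
  rw [eq_top_iff, ← closure_ut_eq_top (by decide), Subgroup.closure_le]
  rintro A ⟨v, c, hv, hA⟩
  have k : sm A = 1 → A ∈ K := fun e => by rw [show A = 1 from sm_injective e]; exact one_mem _
  by_cases h0 : v = 0
  · exact k (by rw [hA, h0, ut_zero_left])
  have hc := (isIsom_ut_iff h0).1 (hA ▸ sm_isIsom A)
  rw [hv, mul_zero, add_zero, cj_apply] at hc
  rcases (by decide : ∀ c : F4, c + c ^ 2 = 0 → c = 0 ∨ c = 1) c hc with rfl | rfl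
  · exact k (by rw [hA, ut_zero])
  · rw [show A = ts v from sm_injective (hA.trans (sm_ts hv).symm)]
    exact ts_mem h v

/-! ### The action -/

/-- all the coordinates of the image -/
def lamG (g : M6) (f : V0) (S : Fin 3 → Fin 6) : F4 :=
  ∑ T : Fin 10, (mn g S (sA T) * f T + mn g S (sB T) * (f T * f T))

/-- the action on tensors -/
def tact (g : M6) (F : (Fin 3 → Fin 6) → F4) (S : Fin 3 → Fin 6) : F4 :=
  ∑ a, ∑ b, ∑ c, g (S 0) a * g (S 1) b * g (S 2) c * F ![a, b, c]

theorem sum3 (x y z : Fin 6 → F4) : (∑ a, x a) * ((∑ b, y b) * ∑ c, z c) = ∑ a, ∑ b, ∑ c, x a * (y b * z c) := by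
  rw [Finset.sum_mul_sum Finset.univ Finset.univ y z, Finset.sum_mul_sum]
  simp only [Finset.mul_sum]

theorem mn_mul (g h : M6) (S T : Fin 3 → Fin 6) : mn (g * h) S T = tact g (fun U => mn h U T) S := by
  simp only [mn, tact, mul_apply, mul_add, sum3, ← Finset.sum_add_distrib]
  refine Finset.sum_congr rfl fun a _ => Finset.sum_congr rfl fun b _ => Finset.sum_congr rfl fun c _ => ?_
  simp only [cons_val_zero, cons_val_one, cons_val]
  ring

theorem lamG_mul (g h : M6) (f : V0) : lamG (g * h) f = tact g (lamG h f) := by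
  ext S
  simp only [lamG, mn_mul, tact, Finset.sum_mul, Finset.mul_sum, ← Finset.sum_add_distrib]
  rw [Finset.sum_comm]
  refine Finset.sum_congr rfl fun a _ => ?_
  rw [Finset.sum_comm]
  refine Finset.sum_congr rfl fun b _ => ?_
  rw [Finset.sum_comm]
  refine Finset.sum_congr rfl fun c _ => Finset.sum_congr rfl fun T _ => ?_
  ring

/-- alternating tensors -/
structure Alt (F : (Fin 3 → Fin 6) → F4) : Prop where
  s1 : ∀ a b c, F ![a, b, c] = F ![b, a, c]
  s2 : ∀ a b c, F ![a, b, c] = F ![a, c, b]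
  z : ∀ a c, F ![a, a, c] = 0

theorem alt_mn (g : M6) (T : Fin 3 → Fin 6) : Alt fun S => mn g S T := by
  have h2 : (2 : F4) = 0 := rfl
  refine ⟨fun a b c => ?_, fun a b c => ?_, fun a c => ?_⟩ <;>
    simp only [mn, cons_val_zero, cons_val_one, cons_val]
  · ring
  · ring
  · linear_combination (g a (T 0) * g a (T 1) * g c (T 2) + g a (T 0) * g a (T 2) * g c (T 1) +
      g a (T 1) * g a (T 2) * g c (T 0)) * h2

theorem alt_lamG (g : M6) (f : V0) : Alt (lamG g f) := by
  refine ⟨fun a b c => ?_, fun a b c => ?_, fun a c => ?_⟩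
  · simp only [lamG, (alt_mn g _).s1 a b c]
  · simp only [lamG, (alt_mn g _).s2 a b c]
  · simp [lamG, (alt_mn g _).z a c]

theorem sorted : ∀ a b c : Fin 6, a < b → b < c → ∃ T, ![a, b, c] = sA T ∨ ![a, b, c] = sB T := by
  decide +kernel

theorem Alt.ext {F G : (Fin 3 → Fin 6) → F4} (hF : Alt F) (hG : Alt G) (hA : ∀ T, F (sA T) = G (sA T))
    (hB : ∀ T, F (sB T) = G (sB T)) : F = G := by
  have k0 : ∀ a b c, a ≤ b → b ≤ c → F ![a, b, c] = G ![a, b, c] := fun a b c h1 h2 => by
    rcases h1.eq_or_lt with rfl | h1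
    · rw [hF.z, hG.z]
    rcases h2.eq_or_lt with rfl | h2
    · rw [hF.s1, hF.s2, hF.z, hG.s1, hG.s2, hG.z]
    obtain ⟨T, e | e⟩ := sorted a b c h1 h2 <;> rw [e]
    exacts [hA T, hB T]
  have k1 : ∀ a b c, b ≤ c → F ![a, b, c] = G ![a, b, c] := fun a b c h => by
    rcases le_total a b with h1 | h1
    · exact k0 a b c h1 h
    rw [hF.s1, hG.s1]
    rcases le_total a c with h2 | h2
    · exact k0 b a c h1 h2
    · rw [hF.s2, hG.s2]
      exact k0 b c a h h2
  ext S
  rw [show S = ![S 0, S 1, S 2] by ext i; fin_cases i <;> rfl]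
  rcases le_total (S 1) (S 2) with h | h
  · exact k1 _ _ _ h
  · rw [hF.s2, hG.s2]
    exact k1 _ _ _ h

theorem mn_one : ∀ S T : Fin 10, mn 1 (sA S) (sA T) = (if T = S then 1 else 0) ∧ mn 1 (sA S) (sB T) = 0 ∧
    mn 1 (sB S) (sA T) = 0 ∧ mn 1 (sB S) (sB T) = (if T = S then 1 else 0) := by decide +kernel

theorem lamG_oneA (f : V0) (S : Fin 10) : lamG 1 f (sA S) = f S := by
  simp only [lamG, mn_one, ite_mul, one_mul, zero_mul, add_zero]
  exact (Finset.sum_ite_eq' _ _ f).trans (if_pos (Finset.mem_univ _))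

theorem lamG_oneB (f : V0) (S : Fin 10) : lamG 1 f (sB S) = f S * f S := by simp [lamG, mn_one]

theorem lam_one (f : V0) : lam 1 f = f := funext (lamG_oneA f)

/-- the matrix preserves the real form -/
def Real (g : M6) : Prop := ∀ f, lamG g f = lamG 1 (lam g f)

theorem Real.lam_mul {h : M6} (hh : Real h) (g : M6) (f : V0) : lam (g * h) f = lam g (lam h f) := by
  funext S
  change lamG (g * h) f (sA S) = lamG g (lam h f) (sA S)
  rw [lamG_mul, hh, ← lamG_mul, mul_one]

theorem Real.mul {g h : M6} (hg : Real g) (hh : Real h) : Real (g * h) := fun f => by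
  rw [hh.lam_mul, lamG_mul, hh, ← lamG_mul, mul_one, hg]

theorem real_one : Real 1 := fun f => by rw [lam_one]

theorem real_of {g : M6} (h : ∀ S T : Fin 10, mn g (sB S) (sA T) = mn g (sA S) (sB T) * mn g (sA S) (sB T) ∧
    mn g (sB S) (sB T) = mn g (sA S) (sA T) * mn g (sA S) (sA T)) : Real g := fun f => by
  refine (alt_lamG g f).ext (alt_lamG 1 _) (fun T => (lamG_oneA (lam g f) T).symm) fun S => ?_
  rw [lamG_oneB, ← sq, lam, ← cj_apply (q := 2), map_sum, lamG]
  refine Finset.sum_congr rfl fun T _ => ?_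
  rw [(h S T).1, (h S T).2]
  generalize mn g (sA S) (sA T) = x, mn g (sA S) (sB T) = y, f T = z
  revert x y z
  decide

/-- the matrix of a transvection -/
def tm (r : V6) : M6 := Matrix.of fun i j => r i * (r j * r j) + cond (Nat.beq i j) 1 0

theorem tm_eq {r : V6} (h : 𝐡 r r = 0) : sm (ts r) = tm r := by
  rw [sm_ts h]
  ext i j
  by_cases e : i = j
  · simp [unitaryTransvection, tm, vecMulVec_apply, e, sq, add_comm]
  · have : Nat.beq i j = false := Bool.eq_false_iff.2 fun h => e (Fin.ext (Nat.eq_of_beq_eq_true h))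
    simp [unitaryTransvection, tm, vecMulVec_apply, sq, one_apply_ne e, this]

theorem gens_real : ∀ r ∈ gens, ∀ S T : Fin 10,
    mn (tm r) (sB S) (sA T) = mn (tm r) (sA S) (sB T) * mn (tm r) (sA S) (sB T) ∧
    mn (tm r) (sB S) (sB T) = mn (tm r) (sA S) (sA T) * mn (tm r) (sA S) (sA T) :=
  forall_gens (by decide +kernel)

instance : Finite (SU 6 F4 2) := inferInstance

theorem real_sm (g : SU 6 F4 2) : Real (sm g) := by
  let K : Submonoid (SU 6 F4 2) := ⟨⟨{g | Real (sm g)}, fun ha hb => ha.mul hb⟩, real_one⟩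
  let K' : Subgroup (SU 6 F4 2) := { K with
    inv_mem' := fun {g} hg => by
      rw [show g⁻¹ = g ^ (orderOf g - 1) from inv_eq_of_mul_eq_one_right (by
        rw [← pow_succ', Nat.sub_add_cancel (orderOf_pos g), pow_orderOf_eq_one])]
      exact pow_mem (S := K) hg _ }
  have : K' = ⊤ := gen8S fun r hr => by
    change Real (sm (ts r))
    rw [tm_eq (gens_iso r hr)]
    exact real_of (gens_real r hr)
  exact (this ▸ mem_top g : g ∈ K')

theorem lam_smul {c : F4} (hc : c ≠ 0) (g : M6) (f : V0) : lam (c • g) f = lam g f := by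
  have h3 : c ^ 3 = 1 := by revert c; decide
  have : ∀ S T, mn (c • g) S T = mn g S T := fun S T => by
    simp only [mn, Matrix.smul_apply, smul_eq_mul]
    linear_combination mn g S T * h3 + (c ^ 3 - 1) * (by rw [mn] : mn g S T = _).symm
  funext S
  simp only [lam, this]

theorem lam_add (g : M6) (f f' : V0) : lam g (f + f') = lam g f + lam g f' := by
  funext S
  change _ = lam g f S + lam g f' S
  simp only [lam, ← Finset.sum_add_distrib]
  refine Finset.sum_congr rfl fun T _ => ?_
  change _ * (f T + f' T) + _ * ((f T + f' T) * (f T + f' T)) = _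
  generalize mn g (sA S) (sA T) = x, mn g (sA S) (sB T) = y, f T = z, f' T = u
  revert x y z u
  decide

end ActA

open ActA

theorem act_mk (g : SU 6 F4 2) (f : V0) : (g : L6) • f = lam (sm g) f := by
  obtain ⟨c, hc⟩ := (mem_center_SU_iff (by decide) _).1
    (QuotientGroup.eq.1 (QuotientGroup.out_eq' (g : L6)).symm)
  have e : sm (g : L6).out = c • sm g := by
    rw [← mul_inv_cancel_left g (g : L6).out, sm_mul, hc, mul_smul_comm, mul_one]
  have h0 : c ≠ 0 := fun h0 => by
    have := sm_det (g : L6).out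
    rw [e, h0, zero_smul, det_zero] at this
    exact zero_ne_one this
  change lam (sm (g : L6).out) f = _
  rw [e, lam_smul h0]

noncomputable instance instDistribMulActionL6V0 : DistribMulAction L6 V0 where
  one_smul f := (act_mk 1 f).trans (lam_one f)
  mul_smul x y f := by
    obtain ⟨g, rfl⟩ := QuotientGroup.mk_surjective x
    obtain ⟨h, rfl⟩ := QuotientGroup.mk_surjective y
    rw [← QuotientGroup.mk_mul, act_mk, act_mk, act_mk, sm_mul, (real_sm h).lam_mul]
  smul_zero x := left_eq_add.1 ((congrArg (lam _) (add_zero 0).symm).trans (lam_add _ 0 0))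
  smul_add x := lam_add _

theorem add_self (f : V0) : f + f = 0 := funext fun k => CharTwo.add_self_eq_zero (f k)

theorem card_V0 : Nat.card V0 = 2 ^ 20 := by
  change Nat.card (Fin 10 → F4) = _
  rw [Nat.card_fun, Nat.card_eq_fintype_card, Nat.card_eq_fintype_card, F4.card_eq, Fintype.card_fin]
  norm_num

/-- the eight transvections generate -/
theorem gen8 {K : Subgroup L6} (h : ∀ r ∈ gens, tv r ∈ K) : K = ⊤ := by
  have : K.comap (QuotientGroup.mk' _) = ⊤ := gen8S h
  rw [eq_top_iff]
  intro x _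
  obtain ⟨g, rfl⟩ := QuotientGroup.mk_surjective x
  exact (this ▸ mem_top g : g ∈ K.comap (QuotientGroup.mk' _))

theorem fc_mod (a : ℕ) : fc a = fc (a % 4) := by rw [fc, fc, Nat.mod_mod]

theorem fc_xor (a b : ℕ) : fc (a ^^^ b) = fc a + fc b := by
  rw [fc_mod, fc_mod a, fc_mod b, show 4 = 2 ^ 2 from rfl, Nat.xor_mod_two_pow]
  exact (by decide : ∀ x < 2 ^ 2, ∀ y < 2 ^ 2, fc (x ^^^ y) = fc x + fc y) _ (Nat.mod_lt _ (by decide)) _
    (Nat.mod_lt _ (by decide))

theorem fc_inj {a b : ℕ} (h : fc a = fc b) : a % 4 = b % 4 := by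
  rw [fc_mod, fc_mod b] at h
  exact (by decide : ∀ x < 4, ∀ y < 4, fc x = fc y → x = y) _ (Nat.mod_lt _ (by decide)) _
    (Nat.mod_lt _ (by decide)) h

theorem dc_xor (a b : ℕ) : dc (a ^^^ b) = dc a + dc b := funext fun k => by
  change fc _ = fc _ + fc _
  rw [Nat.shiftRight_xor_distrib, fc_xor]

theorem dc_zero : dc 0 = 0 := funext fun k => by
  change fc _ = 0
  rw [Nat.zero_shiftRight]
  rfl

theorem dc_inj {a b : ℕ} (ha : a < 2 ^ 20) (hb : b < 2 ^ 20) (h : dc a = dc b) : a = b := by
  have k : ∀ k : Fin 10, (a >>> (2 * k.val)) % 4 = (b >>> (2 * k.val)) % 4 := fun k => fc_inj (congrFun h k)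
  have : ∀ j ≤ 10, a % 4 ^ j = b % 4 ^ j := by
    intro j
    induction j with
    | zero => intro; simp [Nat.mod_one]
    | succ j ih =>
      intro hj
      have := k ⟨j, hj⟩
      rw [Nat.shiftRight_eq_div_pow, Nat.shiftRight_eq_div_pow, pow_mul] at this
      rw [Nat.mod_pow_succ, Nat.mod_pow_succ, ih (Nat.le_of_succ_le hj)]
      exact congrArg (fun t => b % 4 ^ j + 4 ^ j * t) this
  have := this 10 le_rfl
  rwa [show 4 ^ 10 = 2 ^ 20 from rfl, Nat.mod_eq_of_lt ha, Nat.mod_eq_of_lt hb] at this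

theorem dc_surj (f : V0) : ∃ n < 2 ^ 20, f = dc n := by
  have : Function.Bijective fun n : Fin (2 ^ 20) => dc n :=
    (Nat.bijective_iff_injective_and_card _).2
      ⟨fun a b h => Fin.ext (dc_inj a.2 b.2 h), by rw [card_V0, Nat.card_fin]⟩
  obtain ⟨n, hn⟩ := this.2 f
  exact ⟨n, n.2, hn.symm⟩

theorem ap_aux (t : List ℕ) : ∀ ψ : ℕ → V0, (∀ a b, ψ (a ^^^ b) = ψ a + ψ b) →
    (∀ k < t.length, t.getD k 0 < 2 ^ 20 ∧ ψ (2 ^ k) = dc (t.getD k 0)) →
    ∀ n < 2 ^ t.length, ψ n = dc (ap t n) ∧ ap t n < 2 ^ 20 := by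
  have h0 : ∀ ψ : ℕ → V0, (∀ a b, ψ (a ^^^ b) = ψ a + ψ b) → ψ 0 = 0 := fun ψ hψ =>
    left_eq_add.1 (hψ 0 0)
  induction t with
  | nil =>
    intro ψ hψ _ n hn
    obtain rfl : n = 0 := by simpa using hn
    exact ⟨(h0 ψ hψ).trans dc_zero.symm, Nat.two_pow_pos 20⟩
  | cons a t ih =>
    intro ψ hψ h n hn
    obtain ⟨h1, h2⟩ := ih (fun m => ψ (m <<< 1)) (fun a b => by rw [Nat.shiftLeft_xor_distrib, hψ])
      (fun k hk => by
        have := h (k + 1) (Nat.succ_lt_succ hk)
        rwa [Nat.shiftLeft_eq, pow_one, ← pow_succ]) (n / 2)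
      (by rw [List.length_cons, pow_succ] at hn; omega)
    obtain ⟨h3, h4⟩ := h 0 (Nat.succ_pos _)
    have e : n = n % 2 ^^^ (n / 2) <<< 1 := Nat.eq_of_testBit_eq fun j => by
      cases j with
      | zero => simp [Nat.shiftLeft_eq]
      | succ j => simp [Nat.testBit_succ, Nat.xor_div_two, Nat.shiftLeft_eq, Nat.div_eq_of_lt (Nat.mod_lt n two_pos)]
    change ψ n = dc (cond (Nat.beq (n % 2) 1) a 0 ^^^ ap t (n / 2)) ∧
      cond (Nat.beq (n % 2) 1) a 0 ^^^ ap t (n / 2) < _
    rw [dc_xor, ← h1]
    rcases Nat.mod_two_eq_zero_or_one n with e0 | e0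
    · rw [e0] at e ⊢
      refine ⟨?_, Nat.xor_lt_two_pow (Nat.two_pow_pos 20) h2⟩
      conv_lhs => rw [e, hψ, h0 ψ hψ, ← dc_zero]
      rfl
    · rw [e0] at e ⊢
      refine ⟨?_, Nat.xor_lt_two_pow h3 h2⟩
      conv_lhs => rw [e, hψ]
      exact congrArg (· + _) h4

/-- an additive map is computed by its table -/
theorem ap_spec (φ : V0 →+ V0) {t : List ℕ} (hl : t.length = 20)
    (h : ∀ k < 20, t.getD k 0 < 2 ^ 20 ∧ φ (dc (2 ^ k)) = dc (t.getD k 0)) {n : ℕ} (hn : n < 2 ^ 20) :
    φ (dc n) = dc (ap t n) ∧ ap t n < 2 ^ 20 :=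
  ap_aux t (fun n => φ (dc n)) (fun a b => by rw [dc_xor, map_add]) (hl ▸ h) n (hl ▸ hn)

theorem tab_act {g : SU 6 F4 2} {t : List ℕ} (h : tabOK (sm g) t) {n : ℕ} (hn : n < 2 ^ 20) :
    (g : L6) • dc n = dc (ap t n) ∧ ap t n < 2 ^ 20 :=
  ap_spec (DistribSMul.toAddMonoidHom V0 (g : L6)) h.1
    (fun k hk => ⟨(h.2 k hk).1, (act_mk g _).trans (h.2 k hk).2⟩) hn

/-- `lam` in a form that the kernel evaluates quickly on sparse vectors -/
def lamF (g : Matrix (Fin 6) (Fin 6) F4) (f : V0) (S : Fin 10) : F4 :=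
  ∑ T : Fin 10, f T * (mn g (sA S) (sA T) + f T * mn g (sA S) (sB T))

theorem lamF_eq (g : Matrix (Fin 6) (Fin 6) F4) (f : V0) (S : Fin 10) : lamF g f S = lam g f S :=
  Finset.sum_congr rfl fun T _ => by ring

/-- a quick check of a table -/
def tabB (g : Matrix (Fin 6) (Fin 6) F4) (t : List ℕ) : Bool :=
  Nat.beq t.length 20 && (List.range 20).all fun k => Nat.blt (t.getD k 0) (2 ^ 20) &&
    decide (∀ S : Fin 10, lamF g (dc (2 ^ k)) S = fc (t.getD k 0 >>> (2 * S.val)))

theorem tabOK_of {g : Matrix (Fin 6) (Fin 6) F4} {t : List ℕ} (h : tabB g t = true) : tabOK g t := by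
  simp only [tabB, Bool.and_eq_true, List.all_eq_true, List.mem_range, Nat.blt_eq, Nat.beq_eq,
    decide_eq_true_eq] at h
  exact ⟨h.1, fun k hk => ⟨(h.2 k hk).1, funext fun S => (lamF_eq _ _ S).symm.trans ((h.2 k hk).2 S)⟩⟩

/-- the table of a transvection -/
theorem tabOK_ts {r : V6} {t : List ℕ} (h0 : hf r r = 0) (h : tabB (tm r) t = true) : tabOK (sm (ts r)) t := by
  rw [tm_eq ((hf_eq r r).trans h0)]
  exact tabOK_of h

/-- the tables of the eight generators -/
def GT : List (List ℕ) := [
  [1, 2, 4, 8, 16, 32, 64, 128, 262144, 786432, 65536, 196608, 16384, 49152, 4096, 12288, 1024, 3072, 256, 768],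
  [1, 2, 256, 512, 1024, 2048, 4096, 8192, 4, 8, 16, 32, 64, 128, 16384, 32768, 65536, 131072, 262144, 524288],
  [4, 8, 1, 2, 16, 32, 64, 128, 256, 512, 16384, 32768, 65536, 131072, 1024, 2048, 4096, 8192, 262144, 524288],
  [1, 2, 16, 32, 4, 8, 64, 128, 1024, 2048, 256, 512, 4096, 8192, 16384, 32768, 262144, 524288, 65536, 131072],
  [1, 2, 4, 8, 64, 128, 16, 32, 256, 512, 4096, 8192, 1024, 2048, 65536, 131072, 16384, 32768, 262144, 524288],
  [1, 2, 4, 8, 16, 32, 64, 128, 786432, 524288, 196608, 131072, 49152, 32768, 12288, 8192, 3072, 2048, 768, 512],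
  [349524, 1043112, 349521, 966306, 349509, 768906, 349461, 716586, 349269, 960762, 348501, 762606, 345429,
    707262, 333141, 670443, 283989, 569019, 87381, 175023],
  [693588, 354984, 616785, 431778, 419397, 629130, 367125, 681258, 611493, 436314, 414105, 631398, 361833,
    674454, 337302, 662121, 285030, 566937, 87642, 174501]]

theorem GT_chk : ∀ j < 8, hf (gens.getD j 0) (gens.getD j 0) = 0 ∧ tabB (tm (gens.getD j 0)) (GT.getD j []) = true := by
  decide +kernel

theorem GT_ok : ∀ k < 8, tabOK (sm (ts (gens.getD k 0))) (GT.getD k []) := fun k hk =>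
  tabOK_ts (GT_chk k hk).1 (GT_chk k hk).2

end Cfsg.Agent.E62
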